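import Mathlib.AlgebraicGeometry.Modules.Tilde
import Groth.Agent.Lib.TensorMod.Invertible
import Groth.Agent.Lib.ModM1.Local
import Groth.Agent.Lib.DQC.Affine

/-!
# Quasi-coherent modules on the spectrum of a field split
-/

universe u

open CategoryTheory CategoryTheory.Limits AlgebraicGeometry TopologicalSpace Opposite

set_option autoImplicit false
set_option linter.style.haveILetI false
set_option maxHeartbeats 200000
set_option backward.isDefEq.respectTransparency false

noncomputable section

namespace Groth.Agent.Kunneth22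

/-- Every linear map has a partial inverse. -/
theorem exists_split_linear {K : Type*} [Field K] {V W : Type*} [AddCommGroup V] [Module K V] [AddCommGroup W]
    [Module K W] (l : V →ₗ[K] W) : ∃ s : W →ₗ[K] V, l ∘ₗ s ∘ₗ l = l := by
  obtain ⟨r, hr⟩ := l.rangeRestrict.exists_rightInverse_of_surjective (LinearMap.range_rangeRestrict _)
  obtain ⟨π, hπ⟩ := (LinearMap.range l).subtype.exists_leftInverse_of_injective (Submodule.ker_subtype _)
  refine ⟨r ∘ₗ π, LinearMap.ext fun x => ?_⟩
  show l (r (π (l x))) = l x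
  rw [show π (l x) = l.rangeRestrict x from LinearMap.congr_fun hπ (l.rangeRestrict x)]
  exact congrArg Subtype.val (LinearMap.congr_fun hr (l.rangeRestrict x))

/-- Maps of modules over a field have partial inverses. -/
theorem exists_split_moduleCat (R : CommRingCat.{u}) (hR : IsField R) {V W : ModuleCat.{u} R} (g : V ⟶ W) :
    ∃ s : W ⟶ V, g ≫ s ≫ g = g := by
  letI := hR.toField
  obtain ⟨s, hs⟩ := exists_split_linear (K := (R : Type u)) g.hom
  exact ⟨ModuleCat.ofHom s, ModuleCat.hom_ext hs⟩

/-- Partial inverses transport along a counit. -/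
theorem exists_split_transport {C D : Type*} [Category C] [Category D] (F : C ⥤ D) (T : D ⥤ C) (α : F ⋙ T ⟶ 𝟭 C)
    {M N : C} [IsIso (α.app M)] [IsIso (α.app N)] (d : M ⟶ N)
    (h : ∃ s : F.obj N ⟶ F.obj M, F.map d ≫ s ≫ F.map d = F.map d) : ∃ s : N ⟶ M, d ≫ s ≫ d = d := by
  obtain ⟨s, hs⟩ := h
  have nat : T.map (F.map d) ≫ α.app N = α.app M ≫ d := α.naturality d
  refine ⟨inv (α.app N) ≫ T.map s ≫ α.app M, ?_⟩
  rw [← cancel_epi (α.app M)]
  calc α.app M ≫ d ≫ (inv (α.app N) ≫ T.map s ≫ α.app M) ≫ d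
      = (α.app M ≫ d) ≫ inv (α.app N) ≫ T.map s ≫ (α.app M ≫ d) := by simp only [Category.assoc]
    _ = T.map (F.map d) ≫ T.map s ≫ T.map (F.map d) ≫ α.app N := by
        rw [← nat]; simp only [Category.assoc, IsIso.hom_inv_id_assoc]
    _ = α.app M ≫ d := by rw [← T.map_comp_assoc, ← T.map_comp_assoc, Category.assoc, hs, nat]

variable {k : Type u} [Field k] {M N : (Spec (CommRingCat.of k)).Modules} [Coh.IsQCoh M] [Coh.IsQCoh N]

/-- Every map of modules over a field has a partial inverse. -/
theorem exists_split (d : M ⟶ N) : ∃ s : N ⟶ M, d ≫ s ≫ d = d := by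
  haveI : M.IsQuasicoherent := ‹Coh.IsQCoh M›
  haveI : N.IsQuasicoherent := ‹Coh.IsQCoh N›
  haveI : (tilde.functor (CommRingCat.of k)).Faithful := tilde.fullyFaithfulFunctor.faithful
  haveI : (tilde.functor (CommRingCat.of k)).Full := tilde.fullyFaithfulFunctor.full
  haveI : IsIso ((tilde.adjunction (R := CommRingCat.of k)).counit.app M) :=
    (tilde.adjunction (R := CommRingCat.of k)).isIso_counit_app_iff_mem_essImage.mpr
      (isIso_fromTildeΓ_iff.mp (Scheme.Modules.isIso_fromTildeΓ_of_isQuasicoherent M))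
  haveI : IsIso ((tilde.adjunction (R := CommRingCat.of k)).counit.app N) :=
    (tilde.adjunction (R := CommRingCat.of k)).isIso_counit_app_iff_mem_essImage.mpr
      (isIso_fromTildeΓ_iff.mp (Scheme.Modules.isIso_fromTildeΓ_of_isQuasicoherent N))
  have hk : IsField (CommRingCat.of k : Type u) := Field.toIsField k
  exact exists_split_transport _ _ (tilde.adjunction (R := CommRingCat.of k)).counit d
    (exists_split_moduleCat (CommRingCat.of k) hk _)

/-- Endomorphisms of the structure module of a field with the idempotent property are trivial. -/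
theorem eq_id_of_idem {e : Coh.structureModule (Spec (CommRingCat.of k)) ⟶ Coh.structureModule (Spec (CommRingCat.of k))}
    (he : e ≫ e = e) (hne : e ≠ 0) : e = 𝟙 _ := by
  let S := Spec (CommRingCat.of k)
  have hK : IsField Γ(S, ⊤) :=
    MulEquiv.isField (Field.toIsField k) (Scheme.ΓSpecIso (CommRingCat.of k)).commRingCatIsoToRingEquiv.toMulEquiv
  letI : Field Γ(S, ⊤) := hK.toField
  have hext : ∀ {a b : Coh.structureModule S ⟶ Coh.structureModule S},
      a.app ⊤ (1 : Γ(S, ⊤)) = b.app ⊤ (1 : Γ(S, ⊤)) → a = b := fun h =>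
    M1.unit_hom_ext h
  let c : Γ(S, ⊤) := e.app ⊤ (1 : Γ(S, ⊤))
  have hc : c * c = c := by
    have h : (e ≫ e).app ⊤ (1 : Γ(S, ⊤)) = e.app ⊤ (1 : Γ(S, ⊤)) := by rw [he]
    have h2 : e.app ⊤ (c • (1 : Γ(S, ⊤))) = c • c := Scheme.Modules.Hom.app_smul e c _
    rw [smul_eq_mul, _root_.mul_one] at h2
    exact h2.symm.trans h
  rcases IsIdempotentElem.iff_eq_zero_or_one.mp (show IsIdempotentElem c from hc) with h0 | h1
  · exact absurd (hext (b := 0) (h0.trans rfl)) hne
  · exact hext (b := 𝟙 _) (h1.trans rfl)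

/-- A map out of the structure module that does not lift has a functional detecting it. -/
theorem exists_functional (d : M ⟶ N) (z : Coh.structureModule (Spec (CommRingCat.of k)) ⟶ N)
    (hz : ∀ w : Coh.structureModule (Spec (CommRingCat.of k)) ⟶ M, w ≫ d ≠ z) :
    ∃ φ : N ⟶ Coh.structureModule (Spec (CommRingCat.of k)), d ≫ φ = 0 ∧ z ≫ φ = 𝟙 _ := by
  haveI : Coh.IsQCoh (Coh.structureModule (Spec (CommRingCat.of k))) := M1.isQCoh_structureModule _
  obtain ⟨s, hs⟩ := exists_split d
  let r := 𝟙 N - s ≫ d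
  have hr : d ≫ r = 0 := by simp [r, Preadditive.comp_sub, hs]
  have hu : z ≫ r ≠ 0 := fun h => hz (z ≫ s) (by
    simp only [r, Preadditive.comp_sub, Category.comp_id, sub_eq_zero] at h
    rw [Category.assoc]; exact h.symm)
  obtain ⟨t, ht⟩ := exists_split (z ≫ r)
  have he : (z ≫ r) ≫ t = 𝟙 _ := by
    refine eq_id_of_idem ?_ fun h0 => hu ?_
    · rw [Category.assoc, ← Category.assoc t, ← Category.assoc]
      conv_rhs => rw [← ht]
    · rw [← ht, ← Category.assoc, h0, zero_comp]
  exact ⟨r ≫ t, by rw [← Category.assoc, hr, zero_comp], by rw [← Category.assoc, he]⟩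

end Groth.Agent.Kunneth22
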