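import Groth.Agent.Lib.Kunneth22.Acyc
import Groth.Agent.Lib.Kunneth22.Split
import Groth.Agent.Lib.CurveCoh17.LES
import Groth.Agent.Lib.CurveCoh17.Section
import Groth.Agent.Lib.CohFound.SerreVan
import Groth.Agent.Lib.ModLimH13.Flat

/-!
# Nonvanishing of exterior products of cohomology classes over a field
-/

universe u

open CategoryTheory CategoryTheory.Limits AlgebraicGeometry TopologicalSpace Opposite

set_option autoImplicit false
set_option linter.style.haveILetI false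
set_option linter.unusedSectionVars false
set_option maxHeartbeats 1000000
set_option backward.isDefEq.respectTransparency false

noncomputable section

namespace Groth.Agent.Kunneth22

open Groth.Agent.CohFound Groth.Agent.CBC10 CurveCoh17

variable {k : Type u} [Field k] {X Y Z : Scheme.{u}} [X.Over (Spec (CommRingCat.of k))]
  [Y.Over (Spec (CommRingCat.of k))] [Z.Over (Spec (CommRingCat.of k))] (p : Z ⟶ X) (q : Z ⟶ Y)

/-- `C ↦ p^* C ⊗ q^* G`. -/
abbrev QF (G : Y.Modules) : X.Modules ⥤ Z.Modules :=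
  Scheme.Modules.pullback p ⋙ M2.tensorR ((Scheme.Modules.pullback q).obj G)

/-- `E ↦ E ⊗ G`. -/
abbrev OF (G : Y.Modules) : ((Spec (CommRingCat.of k))).Modules ⥤ Y.Modules :=
  Scheme.Modules.pullback (Y ↘ (Spec (CommRingCat.of k))) ⋙ M2.tensorR G

/-- The comparison of cohomology. -/
def toZ (w : p ≫ (X ↘ (Spec (CommRingCat.of k))) = q ≫ (Y ↘ (Spec (CommRingCat.of k)))) {G G' : Y.Modules} (e : CohB1.tensorMod G G' ≅ Coh.structureModule Y)
    (C : X.Modules) (n : ℕ) (v : Coh.HH Y ((OF (k := k) G).obj ((Scheme.Modules.pushforward (X ↘ (Spec (CommRingCat.of k)))).obj C)) n) :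
    Coh.HH Z ((QF p q G).obj C) n :=
  CohPull.pushEdge q ((QF p q G).obj C) n (hmap k ((theta (X ↘ (Spec (CommRingCat.of k))) (Y ↘ (Spec (CommRingCat.of k))) q p w e).app C) n v)

theorem hmap_add'' {A B : Y.Modules} (f g : A ⟶ B) (n : ℕ) : hmap k (f + g) n = hmap k f n + hmap k g n :=
  LinearMap.ext fun x => hmap₀_add f g n x

theorem pushEdge_natural {M N : Z.Modules} (φ : M ⟶ N) (n : ℕ)
    (x : Coh.HH Y ((Scheme.Modules.pushforward q).obj M) n) :
    hmap k φ n (CohPull.pushEdge q M n x) =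
      CohPull.pushEdge q N n (hmap k ((Scheme.Modules.pushforward q).map φ) n x) := by
  rw [pushEdge_eq, pushEdge_eq]
  refine Eq.trans ?_ (pullF_map_left q.base ((abF Y).map ((Scheme.Modules.pushforward q).map φ))
    (abMap q (𝟙 ((Scheme.Modules.pushforward q).obj N))) n x).symm
  refine (pullF_map_right q.base (abMap q (𝟙 ((Scheme.Modules.pushforward q).obj M))) ((abF Z).map φ) n x).trans ?_
  refine congrArg (fun t => pullF q.base t n x) ?_
  apply CategoryTheory.Sheaf.hom_ext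
  exact NatTrans.ext (funext fun W => AddCommGrpCat.ext fun s => rfl)

variable (w : p ≫ (X ↘ (Spec (CommRingCat.of k))) = q ≫ (Y ↘ (Spec (CommRingCat.of k)))) {G G' : Y.Modules} (e : CohB1.tensorMod G G' ≅ Coh.structureModule Y)

theorem toZ_natural {C C' : X.Modules} (φ : C ⟶ C') (n : ℕ)
    (v : Coh.HH Y ((OF (k := k) G).obj ((Scheme.Modules.pushforward (X ↘ (Spec (CommRingCat.of k)))).obj C)) n) :
    hmap k ((QF p q G).map φ) n (toZ (k := k) p q w e C n v) =
      toZ (k := k) p q w e C' n (hmap k ((OF (k := k) G).map ((Scheme.Modules.pushforward (X ↘ (Spec (CommRingCat.of k)))).map φ)) n v) := by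
  refine (pushEdge_natural q _ n _).trans (congrArg (CohPull.pushEdge q _ n) ?_)
  refine ((hmap_comp k _ _ n v).symm.trans ?_).trans (hmap_comp k _ _ n v)
  exact congrArg (fun t => hmap k t n v)
    ((theta (X ↘ Spec (CommRingCat.of k)) (Y ↘ Spec (CommRingCat.of k)) q p w e).naturality φ).symm

theorem toZ_bijective [IsSeparated (X ↘ (Spec (CommRingCat.of k)))] [QuasiCompact (X ↘ (Spec (CommRingCat.of k)))] (h : IsPullback p q (X ↘ (Spec (CommRingCat.of k))) (Y ↘ (Spec (CommRingCat.of k))))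
    (hG : PicF.IsInvertible G) {C : X.Modules} (hC : Coh.IsQCoh C)
    (hCa : ∀ n : ℕ, 0 < n → Subsingleton (Coh.HH X C n)) (n : ℕ) :
    Function.Bijective (toZ (k := k) p q h.w e C n) := by
  haveI := hC
  haveI := isIso_theta h e C
  exact (bijective_pushEdge h hC hCa hG n).comp (hequiv k (asIso ((theta (X ↘ (Spec (CommRingCat.of k))) (Y ↘ (Spec (CommRingCat.of k))) q p h.w e).app C)) n).bijective

instance additive_OF (G : Y.Modules) : (OF (k := k) G).Additive := inferInstance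

/-- A functor applied to the structure module recovers `G`. -/
def unitOF (G : Y.Modules) : (OF (k := k) G).obj (Coh.structureModule (Spec (CommRingCat.of k))) ≅ G :=
  M2.tensorIso (PicLoc.pullbackStructureIso (Y ↘ (Spec (CommRingCat.of k)))) (Iso.refl G) ≪≫ M2.tensorLUnit G

/-- A functional detecting a class. -/
theorem hmap_OF_ne {M N : ((Spec (CommRingCat.of k))).Modules} [Coh.IsQCoh M] [Coh.IsQCoh N] (d : M ⟶ N) (z : Coh.structureModule (Spec (CommRingCat.of k)) ⟶ N)
    (hz : ∀ t : Coh.structureModule (Spec (CommRingCat.of k)) ⟶ M, t ≫ d ≠ z) (G : Y.Modules) {n : ℕ}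
    {w : Coh.HH Y ((OF (k := k) G).obj (Coh.structureModule (Spec (CommRingCat.of k)))) n} (hw : w ≠ 0)
    (v : Coh.HH Y ((OF (k := k) G).obj M) n) :
    hmap k ((OF (k := k) G).map d) n v ≠ hmap k ((OF (k := k) G).map z) n w := by
  obtain ⟨φ, hd, hφ⟩ := exists_functional d z hz
  intro heq
  have h := congrArg (hmap k ((OF (k := k) G).map φ) n) heq
  rw [← hmap_comp, ← hmap_comp, ← Functor.map_comp, ← Functor.map_comp, hd, hφ, Functor.map_zero, hmap_zero,
    CategoryTheory.Functor.map_id, hmap_id] at h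
  exact hw h.symm

/-- Global sections as maps from the structure module of the point. -/
def pointMap {H : X.Modules} (s : Γ(H, (⊤ : X.Opens))) :
    Coh.structureModule (Spec (CommRingCat.of k)) ⟶ (Scheme.Modules.pushforward (X ↘ (Spec (CommRingCat.of k)))).obj H :=
  (Scheme.Modules.pullbackPushforwardAdjunction (X ↘ (Spec (CommRingCat.of k)))).homEquiv _ _
    ((PicLoc.pullbackStructureIso (X ↘ (Spec (CommRingCat.of k)))).hom ≫ M1.secHom s)

theorem exists_section_of_factor {C H : X.Modules} (π : C ⟶ H) (s : Γ(H, (⊤ : X.Opens)))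
    (t : Coh.structureModule (Spec (CommRingCat.of k)) ⟶ (Scheme.Modules.pushforward (X ↘ (Spec (CommRingCat.of k)))).obj C)
    (ht : t ≫ (Scheme.Modules.pushforward (X ↘ (Spec (CommRingCat.of k)))).map π = pointMap s) :
    ∃ s' : Γ(C, (⊤ : X.Opens)), π.app ⊤ s' = s := by
  let adj := Scheme.Modules.pullbackPushforwardAdjunction (X ↘ (Spec (CommRingCat.of k)))
  have h1 : (adj.homEquiv _ _).symm t ≫ π = (PicLoc.pullbackStructureIso (X ↘ (Spec (CommRingCat.of k)))).hom ≫ M1.secHom s := by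
    rw [← adj.homEquiv_naturality_right_symm, ht]
    exact Equiv.symm_apply_apply _ _
  let σ := (PicLoc.pullbackStructureIso (X ↘ (Spec (CommRingCat.of k)))).inv ≫ (adj.homEquiv _ _).symm t
  refine ⟨σ.app ⊤ (M1.one ⊤), ?_⟩
  have h2 : σ ≫ π = M1.secHom s := by simp only [σ, Category.assoc, h1, Iso.inv_hom_id_assoc]
  exact (congrArg (fun f => f.app ⊤ (M1.one ⊤)) h2).trans (M1.secHom_app_one s)

variable [IsSeparated (X ↘ (Spec (CommRingCat.of k)))] [QuasiCompact (X ↘ (Spec (CommRingCat.of k)))] (h : IsPullback p q (X ↘ (Spec (CommRingCat.of k))) (Y ↘ (Spec (CommRingCat.of k))))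
  (hG : PicF.IsInvertible G) {j : ℕ} {w₀ : Coh.HH Y ((OF (k := k) G).obj (Coh.structureModule (Spec (CommRingCat.of k)))) j} (hw₀ : w₀ ≠ 0)

include h e hG hw₀

/-- The first step. -/
theorem exists_not_range {S : ShortComplex X.Modules} (hS₂ : Coh.IsQCoh S.X₂) (hS₃ : Coh.IsQCoh S.X₃)
    (hCa : ∀ n : ℕ, 0 < n → Subsingleton (Coh.HH X S.X₂ n)) {z : Coh.HH X S.X₃ 0}
    (hz : ∀ y, hmap k S.g 0 y ≠ z) :
    ∃ e' : Coh.HH Z ((QF p q G).obj S.X₃) j, ∀ u, hmap k ((QF p q G).map S.g) j u ≠ e' := by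
  let P := Scheme.Modules.pushforward (X ↘ (Spec (CommRingCat.of k)))
  obtain ⟨S', hS', rfl₁, hC', -, hC'a⟩ := exists_acyclic_step (a := X ↘ (Spec (CommRingCat.of k))) hS₃
  let ι : S.X₃ ⟶ S'.X₂ := eqToHom rfl₁.symm ≫ S'.f
  haveI := hS'.mono_f
  haveI : Mono ι := mono_comp _ _
  let s := Sheaf.H.equiv₀ (Coh.toAb S.X₃) (CategoryTheory.Limits.isTerminalTop (α := X.Opens)) z
  let ζ := pointMap (k := k) (H := S.X₃) s
  refine ⟨toZ (k := k) p q h.w e S.X₃ j (hmap k ((OF (k := k) G).map ζ) j w₀), fun u hu => ?_⟩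
  obtain ⟨v, rfl⟩ := (toZ_bijective p q e h hG hS₂ hCa j).2 u
  have h1 := congrArg (hmap k ((QF p q G).map ι) j) hu
  rw [← hmap_comp, ← Functor.map_comp, toZ_natural, toZ_natural, ← hmap_comp, ← Functor.map_comp] at h1
  have h2 := (toZ_bijective p q e h hG hC' hC'a j).1 h1
  haveI : Coh.IsQCoh (P.obj S.X₂) := M1.isQCoh_push (X ↘ (Spec (CommRingCat.of k))) hS₂
  haveI : Coh.IsQCoh (P.obj S'.X₂) := M1.isQCoh_push (X ↘ (Spec (CommRingCat.of k))) hC'
  refine hmap_OF_ne (P.map (S.g ≫ ι)) (ζ ≫ P.map ι) (fun t ht => ?_) G hw₀ v h2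
  rw [Functor.map_comp, ← Category.assoc] at ht
  haveI : (Scheme.Modules.pushforward (X ↘ (Spec (CommRingCat.of k)))).IsRightAdjoint :=
    (Scheme.Modules.pullbackPushforwardAdjunction (X ↘ (Spec (CommRingCat.of k)))).isRightAdjoint
  haveI : Mono (P.map ι) := inferInstance
  obtain ⟨s', hs'⟩ := exists_section_of_factor S.g s t ((cancel_mono (P.map ι)).1 ht)
  refine hz ((Sheaf.H.equiv₀ (Coh.toAb S.X₂) (CategoryTheory.Limits.isTerminalTop (α := X.Opens))).symm s') ?_
  apply (Sheaf.H.equiv₀ (Coh.toAb S.X₃) (CategoryTheory.Limits.isTerminalTop (α := X.Opens))).injective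
  refine (Sheaf.H.equiv₀_naturality (CategoryTheory.Limits.isTerminalTop (α := X.Opens)) ((abF X).map S.g) _).symm.trans ?_
  exact (congrArg _ (AddEquiv.apply_symm_apply _ _)).trans hs'

variable (hflat : Flat p)

include hflat

theorem shortExact_QF {S : ShortComplex X.Modules} (hS : S.ShortExact) : (S.map (QF p q G)).ShortExact := by
  haveI := hflat
  haveI := ModLimH13.preservesFiniteLimits_pullback_of_flat p
  haveI : PreservesFiniteColimits (Scheme.Modules.pullback p) := KFlat.Sch.preservesFiniteColimits_pullback p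
  exact CohFound.shortExact_tensor_invertible (hS.map_of_exact (Scheme.Modules.pullback p))
    (PicLoc.isInvertible_pullback q hG)

/-- The later steps. -/
theorem exists_killed : ∀ (r : ℕ) (S : ShortComplex X.Modules), S.ShortExact → Coh.IsQCoh S.X₂ → Coh.IsQCoh S.X₃ →
    (∀ n : ℕ, 0 < n → Subsingleton (Coh.HH X S.X₂ n)) → Nontrivial (Coh.HH X S.X₁ (r + 1)) →
    ∃ x : Coh.HH Z ((QF p q G).obj S.X₁) (j + r + 1), x ≠ 0 ∧ hmap k ((QF p q G).map S.f) (j + r + 1) x = 0
  | 0, S, hS, hS₂, hS₃, hCa, hne => by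
    obtain ⟨c, hc⟩ := exists_ne (0 : Coh.HH X S.X₁ 1)
    haveI := hCa 1 one_pos
    obtain ⟨z, rfl⟩ := (exact_hdelta_hmap k hS 0 c).1 (Subsingleton.elim _ _)
    obtain ⟨e', he'⟩ := exists_not_range p q e h hG hw₀ hS₂ hS₃ hCa (z := z)
      (fun y hy => hc ((exact_hmap_hdelta k hS 0 z).2 ⟨y, hy⟩))
    have hQ := shortExact_QF p q e h hG hw₀ hflat hS
    refine ⟨hdelta k hQ j e', fun h0 => ?_, (exact_hdelta_hmap k hQ j _).2 ⟨e', rfl⟩⟩
    obtain ⟨u, hu⟩ := (exact_hmap_hdelta k hQ j e').1 h0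
    exact he' u hu
  | r + 1, S, hS, hS₂, hS₃, hCa, hne => by
    let P := Scheme.Modules.pushforward (X ↘ (Spec (CommRingCat.of k)))
    haveI := hCa (r + 1) r.succ_pos
    haveI := hCa (r + 2) (by omega)
    obtain ⟨c, hc⟩ := exists_ne (0 : Coh.HH X S.X₁ (r + 2))
    obtain ⟨z, rfl⟩ := (exact_hdelta_hmap k hS (r + 1) c).1 (Subsingleton.elim _ _)
    have hne3 : Nontrivial (Coh.HH X S.X₃ (r + 1)) := ⟨⟨z, 0, fun h0 => hc (by rw [h0, map_zero])⟩⟩
    obtain ⟨S', hS', hX₁, hC', hK', hC'a⟩ := exists_acyclic_step (a := X ↘ (Spec (CommRingCat.of k))) hS₃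
    rw [← hX₁] at hne3
    obtain ⟨x', hx', hkill⟩ := exists_killed r S' hS' hC' hK' hC'a hne3
    let ι : S.X₃ ⟶ S'.X₂ := eqToHom hX₁.symm ≫ S'.f
    haveI := hS'.mono_f
    haveI : Mono ι := mono_comp _ _
    let x'' : Coh.HH Z ((QF p q G).obj S.X₃) (j + r + 1) := hmap k ((QF p q G).map (eqToHom hX₁)) _ x'
    have hx'' : x'' ≠ 0 := fun h0 => hx' (by
      have h1 := congrArg (hmap k ((QF p q G).map (eqToHom hX₁.symm)) (j + r + 1)) h0
      rw [← hmap_comp, ← Functor.map_comp, eqToHom_trans, eqToHom_refl, CategoryTheory.Functor.map_id, hmap_id,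
        map_zero] at h1
      exact h1)
    have hkill' : hmap k ((QF p q G).map ι) _ x'' = 0 := by
      rw [← hmap_comp, ← Functor.map_comp, ← Category.assoc, eqToHom_trans, eqToHom_refl, Category.id_comp]
      exact hkill
    have hQ := shortExact_QF p q e h hG hw₀ hflat hS
    refine ⟨hdelta k hQ (j + r + 1) x'', fun h0 => hx'' ?_, (exact_hdelta_hmap k hQ _ _).2 ⟨x'', rfl⟩⟩
    obtain ⟨u, hu⟩ := (exact_hmap_hdelta k hQ _ x'').1 h0
    replace hu : hmap k ((QF p q G).map S.g) _ u = x'' := hu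
    obtain ⟨v, rfl⟩ := (toZ_bijective p q e h hG hS₂ hCa _).2 u
    have h1 := congrArg (hmap k ((QF p q G).map ι) _) hu
    rw [hkill', ← hmap_comp, ← Functor.map_comp, toZ_natural] at h1
    haveI : Coh.IsQCoh (P.obj S.X₂) := M1.isQCoh_push (X ↘ (Spec (CommRingCat.of k))) hS₂
    haveI : Coh.IsQCoh (P.obj S'.X₂) := M1.isQCoh_push (X ↘ (Spec (CommRingCat.of k))) hC'
    set d := P.map (S.g ≫ ι) with hd
    have hdv : hmap k ((OF (k := k) G).map d) _ v = 0 := by
      apply (toZ_bijective p q e h hG hC' hC'a _).1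
      rw [h1, toZ, map_zero, map_zero]
    obtain ⟨s, hs⟩ := exists_split d
    haveI : P.IsRightAdjoint := (Scheme.Modules.pullbackPushforwardAdjunction (X ↘ (Spec (CommRingCat.of k)))).isRightAdjoint
    haveI : Mono (P.map ι) := inferInstance
    haveI := hS.mono_f
    have hPS : (S.map P).Exact := hS.exact.map_of_mono_of_preservesKernel P hS.mono_f inferInstance
    haveI : Mono (S.map P).f := inferInstanceAs (Mono (P.map S.f))
    have hlift : (𝟙 (P.obj S.X₂) - d ≫ s) ≫ (S.map P).g = 0 := by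
      rw [← cancel_mono (P.map ι), zero_comp, Category.assoc, ShortComplex.map_g, ← Functor.map_comp, ← hd,
        Preadditive.sub_comp, Category.id_comp, Category.assoc, hs, sub_self]
    obtain ⟨l, hl⟩ : ∃ l : P.obj S.X₂ ⟶ P.obj S.X₁, l ≫ P.map S.f = 𝟙 _ - d ≫ s :=
      ⟨hPS.lift _ hlift, hPS.lift_f _ hlift⟩
    have hv : v = hmap k ((OF (k := k) G).map (P.map S.f)) _ (hmap k ((OF (k := k) G).map l) _ v) := by
      rw [← hmap_comp, ← Functor.map_comp, hl]
      have h2 : hmap k ((OF (k := k) G).map (𝟙 _ - d ≫ s)) (j + r + 1) v +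
          hmap k ((OF (k := k) G).map (d ≫ s)) _ v = v := by
        rw [← LinearMap.add_apply, ← hmap_add'', ← Functor.map_add, sub_add_cancel, CategoryTheory.Functor.map_id, hmap_id]
      rwa [Functor.map_comp ((OF (k := k) G)) d s, hmap_comp, hdv, map_zero, add_zero, eq_comm] at h2
    rw [← hu, hv, ← toZ_natural, ← hmap_comp, ← Functor.map_comp, S.zero, Functor.map_zero, hmap_zero]

omit h e hG hw₀ hflat

/-- Nonzero classes have a nonzero exterior product. -/
theorem nontrivial_HH_boxTensor {X Y Z : Scheme.{u}} {a : X ⟶ (Spec (CommRingCat.of k))} {b : Y ⟶ (Spec (CommRingCat.of k))} {p : Z ⟶ X} {q : Z ⟶ Y}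
    [IsSeparated a] [QuasiCompact a] (h : IsPullback p q a b) {F : X.Modules} (hF : Coh.IsQCoh F) {G : Y.Modules}
    (hG : PicF.IsInvertible G) {i j : ℕ} (hi : Nontrivial (Coh.HH X F i)) (hj : Nontrivial (Coh.HH Y G j)) :
    Nontrivial (Coh.HH Z (CohB1.tensorMod ((Scheme.Modules.pullback p).obj F) ((Scheme.Modules.pullback q).obj G))
      (i + j)) := by
  letI : X.Over (Spec (CommRingCat.of k)) := ⟨a⟩
  letI : Y.Over (Spec (CommRingCat.of k)) := ⟨b⟩
  letI : Z.Over (Spec (CommRingCat.of k)) := ⟨q ≫ b⟩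
  haveI : IsSeparated (X ↘ (Spec (CommRingCat.of k))) := ‹IsSeparated a›
  haveI : QuasiCompact (X ↘ (Spec (CommRingCat.of k))) := ‹QuasiCompact a›
  have h' : IsPullback p q (X ↘ (Spec (CommRingCat.of k))) (Y ↘ (Spec (CommRingCat.of k))) := h
  obtain ⟨G', -, ⟨e⟩⟩ := M2.exists_inverse hG
  haveI : Flat p := MorphismProperty.of_isPullback h.flip (inferInstance : Flat b)
  obtain ⟨w, hw⟩ : ∃ w : Coh.HH Y ((OF (k := k) G).obj (Coh.structureModule (Spec (CommRingCat.of k)))) j, w ≠ 0 := by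
    haveI : Nontrivial (Coh.HH Y ((OF (k := k) G).obj (Coh.structureModule (Spec (CommRingCat.of k)))) j) :=
      (hequiv k (unitOF (k := k) G) j).toEquiv.nontrivial
    exact exists_ne 0
  obtain ⟨S, hS, rfl, hC, hK, hCa⟩ := exists_acyclic_step (a := X ↘ (Spec (CommRingCat.of k))) hF
  rcases i with _ | r
  · rw [Nat.zero_add]
    let S₀ : ShortComplex X.Modules := ShortComplex.mk (0 : S.X₁ ⟶ S.X₁) (0 : S.X₁ ⟶ S.X₁) zero_comp
    obtain ⟨z, hz⟩ := exists_ne (0 : Coh.HH X S.X₁ 0)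
    let s := Sheaf.H.equiv₀ (Coh.toAb S.X₁) (CategoryTheory.Limits.isTerminalTop (α := X.Opens)) z
    refine ⟨⟨toZ (k := k) p q h'.w e S.X₁ j (hmap k ((OF (k := k) G).map (pointMap (k := k) s)) j w), 0, fun h0 => ?_⟩⟩
    have h1 := congrArg (hmap k ((QF p q G).map S.f) j) h0
    rw [map_zero, toZ_natural, ← hmap_comp, ← Functor.map_comp] at h1
    haveI := hS.mono_f
    let P := Scheme.Modules.pushforward (X ↘ (Spec (CommRingCat.of k)))
    haveI : P.IsRightAdjoint := (Scheme.Modules.pullbackPushforwardAdjunction (X ↘ (Spec (CommRingCat.of k)))).isRightAdjoint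
    haveI : Coh.IsQCoh (P.obj S.X₂) := M1.isQCoh_push _ hC
    haveI : Coh.IsQCoh (Coh.structureModule (Spec (CommRingCat.of k))) := M1.isQCoh_structureModule _
    refine hmap_OF_ne (0 : Coh.structureModule (Spec (CommRingCat.of k)) ⟶ P.obj S.X₂) (pointMap (k := k) s ≫ P.map S.f) (fun t ht => hz ?_) G hw 0 ?_
    · rw [comp_zero] at ht
      have h3 : pointMap (k := k) s = 0 := zero_of_comp_mono (P.map S.f) ht.symm
      obtain ⟨s', hs'⟩ := exists_section_of_factor (0 : S.X₁ ⟶ S.X₁) s 0 (by rw [zero_comp, h3])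
      rw [Scheme.Modules.Hom.zero_app] at hs'
      apply (Sheaf.H.equiv₀ (Coh.toAb S.X₁) (CategoryTheory.Limits.isTerminalTop (α := X.Opens))).injective
      exact hs'.symm.trans (map_zero _).symm
    · refine (toZ_bijective p q e h' hG hC hCa j).1 (Eq.trans ?_ h1.symm)
      rw [map_zero, toZ, map_zero, map_zero]
  · obtain ⟨x, hx, -⟩ := exists_killed p q e h' hG hw ‹Flat p› r S hS hC hK hCa hi
    rw [show r + 1 + j = j + r + 1 by omega]
    exact ⟨⟨x, 0, hx⟩⟩

end Groth.Agent.Kunneth22
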