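import Groth.Agent.Lib.KFlat.LpullTensor
import Groth.Agent.Lib.TensorNat17.Basic

/-!
# The projection formula for an invertible module
-/

universe u

open CategoryTheory CategoryTheory.Limits AlgebraicGeometry

set_option autoImplicit false

noncomputable section

namespace Groth.Agent.Kunneth22

variable {X Z : Scheme.{u}}

/-- Tensoring with an invertible module as an equivalence. -/
def tensEquiv {G G' : X.Modules} (e : CohB1.tensorMod G G' ≅ Coh.structureModule X) : X.Modules ≌ X.Modules :=
  CategoryTheory.Equivalence.mk (M2.tensorR G') (M2.tensorR G)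
    (NatIso.ofComponents (fun M => M2.untwist (M2.tensorComm G' G ≪≫ e) M)
      fun f => M2.untwist_natural _ f).symm
    (NatIso.ofComponents (fun M => M2.untwist e M) fun f => M2.untwist_natural _ f)

/-- Pullback commutes with tensoring by a fixed module. -/
def pullTensorNat (f : Z ⟶ X) (G : X.Modules) :
    M2.tensorR G ⋙ Scheme.Modules.pullback f ≅
      Scheme.Modules.pullback f ⋙ M2.tensorR ((Scheme.Modules.pullback f).obj G) :=
  NatIso.ofComponents (fun M => M2.pullTensorIso f M G) fun {M N} φ => by
    have h := KFlat.Sch.pullCmp_natural f φ (𝟙 G)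
    rw [CategoryTheory.Functor.map_id] at h
    exact h

/-- The inverse of a pulled back module. -/
def pullInv (f : Z ⟶ X) {G G' : X.Modules} (e : CohB1.tensorMod G G' ≅ Coh.structureModule X) :
    CohB1.tensorMod ((Scheme.Modules.pullback f).obj G) ((Scheme.Modules.pullback f).obj G') ≅ Coh.structureModule Z :=
  (M2.pullTensorIso f G G').symm ≪≫ (Scheme.Modules.pullback f).mapIso e ≪≫ PicLoc.pullbackStructureIso f

/-- The projection formula `f_* P ⊗ G ≅ f_* (P ⊗ f^* G)`. -/
def projIso (f : Z ⟶ X) {G G' : X.Modules} (e : CohB1.tensorMod G G' ≅ Coh.structureModule X) :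
    Scheme.Modules.pushforward f ⋙ M2.tensorR G ≅
      M2.tensorR ((Scheme.Modules.pullback f).obj G) ⋙ Scheme.Modules.pushforward f :=
  ((tensEquiv e).toAdjunction.comp (Scheme.Modules.pullbackPushforwardAdjunction f)).rightAdjointUniq
    (((Scheme.Modules.pullbackPushforwardAdjunction f).comp (tensEquiv (pullInv f e)).toAdjunction).ofNatIsoLeft
      (pullTensorNat f G').symm)

end Groth.Agent.Kunneth22
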