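import Groth.Agent.Lib.Kunneth22.FieldBC
import Groth.Agent.Lib.CBC10.Edge
import Groth.Agent.Lib.TensorMod.QCohTensor
import Groth.Agent.S0011

/-!
# Higher direct images of twisted pullbacks of acyclic modules vanish
-/

universe u

open CategoryTheory CategoryTheory.Limits AlgebraicGeometry TopologicalSpace Opposite

set_option autoImplicit false
set_option linter.style.haveILetI false
set_option maxHeartbeats 1000000
set_option backward.isDefEq.respectTransparency false

noncomputable section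

namespace Groth.Agent.Kunneth22

open Groth.Agent.CohFound Groth.Agent.CBC10

variable {k : Type u} [Field k] {X Y Z : Scheme.{u}} {a : X ⟶ Spec (CommRingCat.of k)}
  {b : Y ⟶ Spec (CommRingCat.of k)} {p : Z ⟶ X} {q : Z ⟶ Y}

/-- An acyclic twisted pullback has no cohomology over small affine opens of the base. -/
theorem subsingleton_preimage [IsSeparated a] [QuasiCompact a] (h : IsPullback p q a b) {C : X.Modules}
    (hC : Coh.IsQCoh C) (hCa : ∀ n : ℕ, 0 < n → Subsingleton (Coh.HH X C n)) {G : Y.Modules} {W : Y.Opens}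
    (hW : IsAffineOpen W) (hG : Nonempty (G.restrict W.ι ≅ Coh.structureModule (W : Scheme.{u}))) (n : ℕ) (hn : 0 < n) :
    Subsingleton (Coh.HH ((q ⁻¹ᵁ W : Z.Opens) : Scheme.{u})
      ((CohB1.tensorMod ((Scheme.Modules.pullback p).obj C) ((Scheme.Modules.pullback q).obj G)).restrict
        (q ⁻¹ᵁ W).ι) n) := by
  let V := q ⁻¹ᵁ W
  obtain ⟨φ, hφ⟩ : ∃ φ : CommRingCat.of k ⟶ Γ(Y, W), Spec.map φ = hW.fromSpec ≫ b :=
    ⟨Spec.preimage (hW.fromSpec ≫ b), Spec.map_preimage _⟩
  letI : Algebra k Γ(Y, W) := φ.hom.toAlgebra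
  letI : X.Over (Spec (CommRingCat.of k)) := ⟨a⟩
  letI := CBC10.overU q hW
  haveI : QuasiCompact (X ↘ Spec (CommRingCat.of k)) := ‹QuasiCompact a›
  haveI : IsSeparated (X ↘ Spec (CommRingCat.of k)) := ‹IsSeparated a›
  have hsq : IsPullback (V.ι ≫ p) (q ∣_ W ≫ hW.isoSpec.hom) a (hW.fromSpec ≫ b) :=
    (CBC10.isPullback_overU q hW).paste_horiz h
  have hsq' : IsPullback (V.ι ≫ p) ((V : Scheme.{u}) ↘ Spec (CommRingCat.of Γ(Y, W))) (X ↘ Spec (CommRingCat.of k))
      (Spec.map (CommRingCat.ofHom (algebraMap k Γ(Y, W)))) := by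
    rw [show CommRingCat.ofHom (algebraMap k Γ(Y, W)) = φ from rfl, hφ]
    exact hsq
  obtain ⟨e⟩ := CBC10.nonempty_baseChange k X C hC (AssField12.isFlatOver_spec_field _ _)
    (fun _ => inferInstance) Γ(Y, W) n hsq'
  obtain ⟨eG⟩ := hG
  let P := Scheme.Modules.pullback p
  let i1 : (Scheme.Modules.pullback V.ι).obj ((Scheme.Modules.pullback q).obj G) ≅ Coh.structureModule (V : Scheme.{u}) :=
    (Scheme.Modules.pullbackComp V.ι q).app G ≪≫
      (Scheme.Modules.pullbackCongr (morphismRestrict_ι q W).symm).app G ≪≫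
      ((Scheme.Modules.pullbackComp (q ∣_ W) W.ι).app G).symm ≪≫
      (Scheme.Modules.pullback (q ∣_ W)).mapIso (((Scheme.Modules.restrictFunctorIsoPullback W.ι).app G).symm ≪≫ eG) ≪≫
      PicLoc.pullbackStructureIso _
  let i : (CohB1.tensorMod (P.obj C) ((Scheme.Modules.pullback q).obj G)).restrict V.ι ≅
      (Scheme.Modules.pullback (V.ι ≫ p)).obj C :=
    (Scheme.Modules.restrictFunctorIsoPullback V.ι).app _ ≪≫ M2.pullTensorIso V.ι _ _ ≪≫
      M2.tensorIso ((Scheme.Modules.pullbackComp V.ι p).app C) i1 ≪≫ M2.tensorRUnit _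
  haveI := hCa n hn
  exact ((CBC10.hmapEquiv i n).trans e).toEquiv.subsingleton

/-- The edge map of a twisted pullback of an acyclic module is bijective. -/
theorem bijective_pushEdge [IsSeparated a] [QuasiCompact a] (h : IsPullback p q a b) {C : X.Modules}
    (hC : Coh.IsQCoh C) (hCa : ∀ n : ℕ, 0 < n → Subsingleton (Coh.HH X C n)) {G : Y.Modules}
    (hG : PicF.IsInvertible G) (n : ℕ) :
    Function.Bijective (CohPull.pushEdge q
      (CohB1.tensorMod ((Scheme.Modules.pullback p).obj C) ((Scheme.Modules.pullback q).obj G)) n) := by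
  refine CBC10.bijective_pushEdge_of_locKilled q _ n fun m _ V ξ y hy => ?_
  obtain ⟨U, hyU, ⟨eU⟩⟩ := hG y
  obtain ⟨W, hW, hyW, hle⟩ := exists_isAffineOpen_mem_and_subset (X := Y) (x := y) (U := V ⊓ U) ⟨hy, hyU⟩
  have hWV : W ≤ V := le_trans hle inf_le_left
  refine ⟨W, hWV, hyW, ?_⟩
  haveI := subsingleton_preimage h hC hCa hW (M2.nonempty_trivial_mono (le_trans hle inf_le_right) eU) (m + 1)
    m.succ_pos
  obtain ⟨e⟩ := nonempty_HHon_addEquiv
    (CohB1.tensorMod ((Scheme.Modules.pullback p).obj C) ((Scheme.Modules.pullback q).obj G)) (q ⁻¹ᵁ W) (m + 1)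
  haveI := e.symm.toEquiv.subsingleton
  exact Subsingleton.elim _ _

/-- A module embeds into an acyclic one with quasi-coherent quotient. -/
theorem exists_acyclic_step [IsSeparated a] [QuasiCompact a] {H : X.Modules} (hH : Coh.IsQCoh H) :
    ∃ S : ShortComplex X.Modules, S.ShortExact ∧ S.X₁ = H ∧ Coh.IsQCoh S.X₂ ∧ Coh.IsQCoh S.X₃ ∧
      ∀ n : ℕ, 0 < n → Subsingleton (Coh.HH X S.X₂ n) := by
  haveI : X.IsSeparated := ⟨by rw [← terminal.comp_from a]; infer_instance⟩
  haveI : CompactSpace X := QuasiCompact.compactSpace_of_compactSpace a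
  haveI := hH
  obtain ⟨C, i, hi, hC, hCa⟩ := Groth.Agent.S0011.result X (fun V W hV hW => hV.inf hW) H
  haveI := hi
  haveI := hC
  exact ⟨ShortComplex.mk i (cokernel.π i) (cokernel.condition i),
    { exact := ShortComplex.exact_of_g_is_cokernel _ (cokernelIsCokernel i) }, rfl, hC,
    M1.isQCoh_cokernel hH hC i, hCa⟩

end Groth.Agent.Kunneth22
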