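import Groth.Agent.Lib.Kunneth22.Proj
import Groth.Agent.Lib.CBC10.Bc0
import Groth.Agent.Lib.CBC10.FlatCoh
import Groth.Agent.Lib.AssField12.Basic
import Groth.Agent.Lib.FlatCx.FlatCoeff

/-!
# Flat base change of global sections over a field, twisted by an invertible module
-/

universe u

open CategoryTheory CategoryTheory.Limits AlgebraicGeometry TopologicalSpace Opposite

set_option autoImplicit false
set_option linter.style.haveILetI false
set_option maxHeartbeats 1000000
set_option backward.isDefEq.respectTransparency false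

noncomputable section

namespace Groth.Agent.Kunneth22

variable {X S X' S' : Scheme.{u}} (f : X ⟶ S) (g : S' ⟶ S) (f' : X' ⟶ S') (g' : X' ⟶ X) (w : g' ≫ f = f' ≫ g)

/-- The adjoint form of base change as a natural transformation. -/
def bcAdjNat : Scheme.Modules.pushforward f ⟶
    (Scheme.Modules.pullback g' ⋙ Scheme.Modules.pushforward f') ⋙ Scheme.Modules.pushforward g where
  app F := CohBC.bc0Adj f g f' g' w F
  naturality F F' φ := by
    have h1 : φ ≫ (Scheme.Modules.pullbackPushforwardAdjunction g').unit.app F' =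
        (Scheme.Modules.pullbackPushforwardAdjunction g').unit.app F ≫
          (Scheme.Modules.pushforward g').map ((Scheme.Modules.pullback g').map φ) :=
      (Scheme.Modules.pullbackPushforwardAdjunction g').unit.naturality φ
    simp only [CohBC.bc0Adj, Functor.comp_map, Category.assoc, ← Functor.map_comp_assoc]
    rw [h1, Functor.map_comp_assoc]
    congr 1
    rw [← Functor.comp_map, NatTrans.naturality_assoc, NatTrans.naturality_assoc]
    congr 2

/-- Base change in degree zero as a natural transformation. -/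
def bcNat : Scheme.Modules.pushforward f ⋙ Scheme.Modules.pullback g ⟶
    Scheme.Modules.pullback g' ⋙ Scheme.Modules.pushforward f' where
  app F := CohBC.bc0 f g f' g' w F
  naturality F F' φ := by
    refine ((Scheme.Modules.pullbackPushforwardAdjunction g).homEquiv _ _).injective ?_
    rw [Functor.comp_map, Adjunction.homEquiv_naturality_left, Adjunction.homEquiv_naturality_right]
    refine Eq.trans (congrArg (_ ≫ ·) (Equiv.apply_symm_apply _ _)) ?_
    refine Eq.trans ?_ (congrArg (· ≫ _) (Equiv.apply_symm_apply _ _)).symm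
    exact (bcAdjNat f g f' g' w).naturality φ

variable {k : Type u} [Field k] {X X' S' : Scheme.{u}} {f : X ⟶ Spec (CommRingCat.of k)}
  {g : S' ⟶ Spec (CommRingCat.of k)} {f' : X' ⟶ S'} {g' : X' ⟶ X}

/-- Over a field degree zero base change is an isomorphism. -/
theorem isIso_bc0_field [IsSeparated f] [QuasiCompact f] (h : IsPullback g' f' f g) (F : X.Modules)
    [hF : Coh.IsQCoh F] : IsIso (CohBC.bc0 f g f' g' h.w F) := by
  let S := Spec (CommRingCat.of k)
  have hV : IsAffineOpen (⊤ : S.Opens) := isAffineOpen_top S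
  have hK : IsField Γ(S, ⊤) :=
    MulEquiv.isField (Field.toIsField k) (Scheme.ΓSpecIso (CommRingCat.of k)).commRingCatIsoToRingEquiv.toMulEquiv
  letI : Field Γ(S, ⊤) := hK.toField
  letI := CBC10.overU f hV
  haveI : QuasiCompact ((f ⁻¹ᵁ ⊤ : X.Opens).toScheme ↘ Spec (CommRingCat.of Γ(S, ⊤))) :=
    inferInstanceAs (QuasiCompact (f ∣_ ⊤ ≫ hV.isoSpec.hom))
  haveI : IsSeparated ((f ⁻¹ᵁ ⊤ : X.Opens).toScheme ↘ Spec (CommRingCat.of Γ(S, ⊤))) :=
    inferInstanceAs (IsSeparated (f ∣_ ⊤ ≫ hV.isoSpec.hom))
  obtain ⟨P, hP, hflat, -⟩ := CBC10.exists_computes_flatCok Γ(S, ⊤) _ (CBC10.resU f F ⊤)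
    (M1.isQCoh_restrict hF _) (AssField12.isFlatOver_spec_field _ _) fun p => inferInstance
  haveI := hflat
  refine CBC10.isIso_of_affine_basis _ (fun W : S'.Opens => IsAffineOpen W) (fun O z hz => ?_) fun W hW => ?_
  · obtain ⟨W, hW, hzW, hle⟩ := exists_isAffineOpen_mem_and_subset (X := S') (x := z) (U := O) hz
    exact ⟨W, hW, hzW, hle⟩
  · have eW : W ≤ g ⁻¹ᵁ ⊤ := fun _ _ => trivial
    letI := (g.appLE ⊤ W eW).hom.toAlgebra
    exact (CBC10.bc0_app_iff h F hV hW eW hP).1.2 (FlatCxLib.theta_bijective_of_flat P _)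

variable (f g f' g')

/-- `g^* f_* C ⊗ G ⟶ f'_* (g'^* C ⊗ f'^* G)`. -/
def theta (w : g' ≫ f = f' ≫ g) {G G' : S'.Modules} (e : CohB1.tensorMod G G' ≅ Coh.structureModule S') :
    Scheme.Modules.pushforward f ⋙ (Scheme.Modules.pullback g ⋙ M2.tensorR G) ⟶
      (Scheme.Modules.pullback g' ⋙ M2.tensorR ((Scheme.Modules.pullback f').obj G)) ⋙
        Scheme.Modules.pushforward f' :=
  Functor.whiskerRight (bcNat f g f' g' w) (M2.tensorR G) ≫
    Functor.whiskerLeft (Scheme.Modules.pullback g') (projIso f' e).hom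

variable {f g f' g'}

theorem isIso_theta [IsSeparated f] [QuasiCompact f] (h : IsPullback g' f' f g) {G G' : S'.Modules}
    (e : CohB1.tensorMod G G' ≅ Coh.structureModule S') (C : X.Modules) [Coh.IsQCoh C] :
    IsIso ((theta f g f' g' h.w e).app C) := by
  haveI := isIso_bc0_field h C
  show IsIso ((M2.tensorR G).map (CohBC.bc0 f g f' g' h.w C) ≫ (projIso f' e).hom.app _)
  infer_instance

end Groth.Agent.Kunneth22
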